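import Groth.Agent.Pi1.K77.TrivDesc

/-!
# Cocycles are coboundaries if finite étale covers have sections

Proof of `K260.D1.H1`.
-/

set_option autoImplicit false
universe u

open CategoryTheory CategoryTheory.Limits AlgebraicGeometry

namespace K77.D1

open K548.PrinLocus Groth.Agent.Pi1.H416.PrincDesc

/-- The difference of two points of a principal cover. -/
theorem exists_dif {Y : Scheme.{u}} {G : Type} [Group G] {P : FEt.Cat Y} {ρ : G →* Aut P}
    (hP : SGA1t.IsPrincipal G P ρ) : ∃ δ : ↥(pullback P.hom P.hom) → G, IsLocallyConstant δ ∧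
      ∀ (Ω : Type u) [Field Ω] (s t : Spec (CommRingCat.of Ω) ⟶ P.left) (h : s ≫ P.hom = t ≫ P.hom),
        s ≫ (ρ (δ (pullback.lift s t h default))).hom.left = t := by
  have i1 : IsFinite P.hom := P.prop.1
  have i2 : Etale P.hom := P.prop.2
  have key : ∀ p : ↥(pullback P.hom P.hom), ∃ c : G, p ∈ Set.range (gr G P ρ c) ∧
      ∀ c', p ∈ Set.range (gr G P ρ c') → c' = c := by
    intro p
    obtain ⟨Ω, _, _, σ, hσ⟩ := exists_geomPt _ p
    let s : FEt.fiberObj (σ ≫ pullback.fst P.hom P.hom ≫ P.hom) P := ⟨σ ≫ pullback.fst P.hom P.hom,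
      Category.assoc _ _ _⟩
    let t : FEt.fiberObj (σ ≫ pullback.fst P.hom P.hom ≫ P.hom) P := ⟨σ ≫ pullback.snd P.hom P.hom, by
      rw [Category.assoc, pullback.condition]⟩
    obtain ⟨c, hc, hu⟩ := hP.2 Ω _ s t
    have hl : pullback.lift s.1 t.1 (s.2.trans t.2.symm) = σ := by
      apply pullback.hom_ext
      · rw [pullback.lift_fst]
      · rw [pullback.lift_snd]
    have hm : ∀ c, p ∈ Set.range (gr G P ρ c) ↔ (FEt.fiber _).map (ρ c).hom s = t := by
      intro c
      rw [← mem_gr_iff G P ρ _ s t c default, hl, hσ]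
    exact ⟨c, (hm c).2 hc, fun c' hc' => hu c' ((hm c').1 hc')⟩
  choose δ hδ1 hδ2 using key
  refine ⟨δ, ?_, ?_⟩
  · rw [IsLocallyConstant.iff_isOpen_fiber]
    intro c
    have h1 : δ ⁻¹' {c} = Set.range (gr G P ρ c) := by
      ext p
      constructor
      · intro h
        have h' : δ p = c := h
        rw [← h']
        exact hδ1 p
      · intro h
        exact (hδ2 p c h).symm
    rw [h1]
    exact (isClopen_gr G P ρ c).2
  · intro Ω _ s t h
    exact (mem_range_graph_iff P.hom _ _ s t h default).1 (hδ1 (pullback.lift s t h default))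

/-- **Node H1.** -/
theorem h1 : K260.D1.H1.{u} := by
  intro T I _ T' π hπ G _ _ g hg hsec
  obtain ⟨Q, ρ, hP, τ, hτ, hc⟩ := trivDesc I T' π hπ G g hg
  obtain ⟨s, hs⟩ := hsec Q.hom Q.prop.1 Q.prop.2 ⟨hP.1⟩
  obtain ⟨δ, hδ1, hδ2⟩ := exists_dif hP
  have hw : ∀ i, (π i ≫ s) ≫ Q.hom = τ i ≫ Q.hom := fun i => by
    rw [Category.assoc, hs, Category.comp_id, hτ]
  refine ⟨fun i x => δ (pullback.lift (π i ≫ s) (τ i) (hw i) x), fun i => ?_, fun i j z => ?_⟩
  · exact hδ1.comp_continuous (pullback.lift (π i ≫ s) (τ i) (hw i)).continuous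
  · obtain ⟨K, _, _, σ, hσ⟩ := exists_geomPt _ z
    obtain ⟨x, hx0⟩ : ∃ x : Spec (CommRingCat.of K) ⟶ T' i, x = σ ≫ pullback.fst (π i) (π j) := ⟨_, rfl⟩
    obtain ⟨y, hy0⟩ : ∃ y : Spec (CommRingCat.of K) ⟶ T' j, y = σ ≫ pullback.snd (π i) (π j) := ⟨_, rfl⟩
    have hxy : x ≫ π i = y ≫ π j := by
      simp only [hx0, hy0, Category.assoc, pullback.condition]
    have hl : pullback.lift x y hxy = σ := by
      apply pullback.hom_ext
      · rw [pullback.lift_fst, hx0]
      · rw [pullback.lift_snd, hy0]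
    have h1 := hc i j K x y hxy
    rw [hl, hσ] at h1
    have hk : ∀ (i : I) (x : Spec (CommRingCat.of K) ⟶ T' i),
        (x ≫ π i ≫ s) ≫ (ρ (δ (pullback.lift (π i ≫ s) (τ i) (hw i) (x default)))).hom.left = x ≫ τ i := by
      intro i x
      have h2 := hδ2 K (x ≫ π i ≫ s) (x ≫ τ i) (by rw [Category.assoc, hw, Category.assoc])
      have h3 : pullback.lift (x ≫ π i ≫ s) (x ≫ τ i) (by rw [Category.assoc, hw, Category.assoc]) =
          x ≫ pullback.lift (π i ≫ s) (τ i) (hw i) := by
        apply pullback.hom_ext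
        · refine (pullback.lift_fst _ _ _).trans ?_
          rw [Category.assoc, pullback.lift_fst]
        · refine (pullback.lift_snd _ _ _).trans ?_
          rw [Category.assoc, pullback.lift_snd]
      rw [h3, Scheme.Hom.comp_apply] at h2
      exact h2
    have hx : x default = pullback.fst (π i) (π j) z := by rw [hx0, Scheme.Hom.comp_apply, hσ]
    have hy : y default = pullback.snd (π i) (π j) z := by rw [hy0, Scheme.Hom.comp_apply, hσ]
    have hx' := hk i x
    have hy' := hk j y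
    rw [hx] at hx'
    rw [hy] at hy'
    set a := δ (pullback.lift (π i ≫ s) (τ i) (hw i) (pullback.fst (π i) (π j) z)) with ha
    set b := δ (pullback.lift (π j ≫ s) (τ j) (hw j) (pullback.snd (π i) (π j) z)) with hb
    let o : FEt.fiberObj (x ≫ π i) Q := ⟨x ≫ π i ≫ s, by
      rw [Category.assoc, Category.assoc, hs, Category.comp_id]⟩
    let o' : FEt.fiberObj (x ≫ π i) Q := ⟨y ≫ τ j, by rw [Category.assoc, hτ, hxy]⟩
    have e1 : (FEt.fiber (x ≫ π i)).map (ρ b).hom o = o' := by
      apply Subtype.ext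
      change (x ≫ π i ≫ s) ≫ (ρ b).hom.left = y ≫ τ j
      rw [← hy', ← Category.assoc x, hxy]
      simp only [Category.assoc]
    have e2 : (FEt.fiber (x ≫ π i)).map (ρ (g i j z * a)).hom o = o' := by
      apply Subtype.ext
      change (x ≫ π i ≫ s) ≫ (ρ (g i j z * a)).hom.left = y ≫ τ j
      have h4 : (ρ (g i j z * a)).hom.left = (ρ a).hom.left ≫ (ρ (g i j z)).hom.left := by
        rw [map_mul]
        rfl
      rw [h4, h1, ← Category.assoc x (τ i), ← hx', Category.assoc (x ≫ π i ≫ s)]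
    have h5 := (hP.2 K _ o o').unique e1 e2
    change g i j z = b * a⁻¹
    rw [h5, mul_inv_cancel_right]

end K77.D1
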