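import Groth.Agent.Pi1.K77.TrivOne
import Groth.Agent.Pi1.K260.D1Plan
import Groth.Agent.EtAcyc.K548.CoverDesc

/-!
# Descent of trivial torsors along a finite covering family

Proof of `K260.D1.TrivDesc`: reduction of a family to the morphism from the disjoint union.
-/

set_option autoImplicit false
universe u

open CategoryTheory CategoryTheory.Limits AlgebraicGeometry

namespace K77.D1

section Fam

variable {ι : Type u} {T : Scheme.{u}} {X : ι → Scheme.{u}} (f : ∀ i, X i ⟶ T)

/-- the map `X i ×_T X j ⟶ (∐ X) ×_T (∐ X)` -/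
noncomputable def jmap (i j : ι) : pullback (f i) (f j) ⟶ pullback (Sigma.desc f) (Sigma.desc f) :=
  pullback.map (f i) (f j) (Sigma.desc f) (Sigma.desc f) (Sigma.ι X i) (Sigma.ι X j) (𝟙 T)
    (by rw [Category.comp_id, Sigma.ι_desc]) (by rw [Category.comp_id, Sigma.ι_desc])

theorem isOpenImmersion_jmap (i j : ι) : IsOpenImmersion (jmap f i j) := by
  have h1 := isOpenImmersion_ι X i
  have h2 := isOpenImmersion_ι X j
  unfold jmap
  infer_instance

theorem lift_jmap {W : Scheme.{u}} (i j : ι) (x : W ⟶ X i) (y : W ⟶ X j) (h : x ≫ f i = y ≫ f j) :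
    pullback.lift x y h ≫ jmap f i j = pullback.lift (x ≫ Sigma.ι X i) (y ≫ Sigma.ι X j)
      (by rw [Category.assoc, Category.assoc, Sigma.ι_desc, Sigma.ι_desc, h]) := by
  apply pullback.hom_ext
  · rw [jmap, Category.assoc, pullback.lift_fst, pullback.lift_fst_assoc, pullback.lift_fst]
  · rw [jmap, Category.assoc, pullback.lift_snd, pullback.lift_snd_assoc, pullback.lift_snd]

theorem jmap_surj (w : ↥(pullback (Sigma.desc f) (Sigma.desc f))) : ∃ i j w', jmap f i j w' = w := by
  obtain ⟨i, x, hx⟩ := (sigmaOpenCover X).exists_eq (pullback.fst (Sigma.desc f) (Sigma.desc f) w)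
  obtain ⟨j, y, hy⟩ := (sigmaOpenCover X).exists_eq (pullback.snd (Sigma.desc f) (Sigma.desc f) w)
  have h1 : w ∈ Set.range (jmap f i j) := by
    unfold jmap
    rw [Scheme.Pullback.range_map]
    exact ⟨⟨x, hx⟩, ⟨y, hy⟩⟩
  obtain ⟨w', hw⟩ := h1
  exact ⟨i, j, w', hw⟩

theorem ι_inj {i i' : ι} {x : X i} {x' : X i'} (h : Sigma.ι X i x = Sigma.ι X i' x') : i = i' :=
  (Sigma.mk.inj_iff.1 ((sigmaι_eq_iff X i i' _ _).1 h)).1

theorem jmap_inj {G : Type} (g : ∀ i j, ↥(pullback (f i) (f j)) → G) {i j i' j' : ι}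
    (w : ↥(pullback (f i) (f j))) (w' : ↥(pullback (f i') (f j'))) (h : jmap f i j w = jmap f i' j' w') :
    g i j w = g i' j' w' := by
  have h1 : Sigma.ι X i (pullback.fst (f i) (f j) w) = Sigma.ι X i' (pullback.fst (f i') (f j') w') := by
    have h2 := congrArg (pullback.fst (Sigma.desc f) (Sigma.desc f)) h
    rw [← Scheme.Hom.comp_apply, ← Scheme.Hom.comp_apply, jmap, jmap, pullback.lift_fst, pullback.lift_fst] at h2
    exact h2
  have h2 : Sigma.ι X j (pullback.snd (f i) (f j) w) = Sigma.ι X j' (pullback.snd (f i') (f j') w') := by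
    have h2 := congrArg (pullback.snd (Sigma.desc f) (Sigma.desc f)) h
    rw [← Scheme.Hom.comp_apply, ← Scheme.Hom.comp_apply, jmap, jmap, pullback.lift_snd, pullback.lift_snd] at h2
    exact h2
  obtain rfl := ι_inj h1
  obtain rfl := ι_inj h2
  have h3 := isOpenImmersion_jmap f i j
  rw [(jmap f i j).isOpenEmbedding.injective h]

theorem exists_fac {K : Type u} [Field K] (x : Spec (CommRingCat.of K) ⟶ ∐ X) :
    ∃ (i : ι) (x₀ : Spec (CommRingCat.of K) ⟶ X i), x₀ ≫ Sigma.ι X i = x := by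
  obtain ⟨i, y, hy⟩ := (sigmaOpenCover X).exists_eq (x default)
  have h1 := isOpenImmersion_ι X i
  have h2 : Set.range x ⊆ Set.range (Sigma.ι X i) := by
    rintro _ ⟨p, rfl⟩
    obtain rfl : p = default := Subsingleton.elim _ _
    exact ⟨y, hy⟩
  exact ⟨i, _, IsOpenImmersion.lift_fac (Sigma.ι X i) x h2⟩

/-- The cocycle on the disjoint union. -/
theorem exists_coc {G : Type} [Group G] (g : ∀ i j, ↥(pullback (f i) (f j)) → G)
    (hlc : ∀ i j, IsLocallyConstant (g i j))
    (hcoc : ∀ (i j k : ι) (K : Type u) [Field K] [IsAlgClosed K] (x : Spec (CommRingCat.of K) ⟶ X i)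
      (y : Spec (CommRingCat.of K) ⟶ X j) (z : Spec (CommRingCat.of K) ⟶ X k) (h : x ≫ f i = y ≫ f j)
      (h' : y ≫ f j = z ≫ f k),
      g i k (pullback.lift x z (h.trans h') default) =
        g j k (pullback.lift y z h' default) * g i j (pullback.lift x y h default)) :
    ∃ g' : ↥(pullback (Sigma.desc f) (Sigma.desc f)) → G, Coc (Sigma.desc f) g' ∧
      ∀ i j w, g' (jmap f i j w) = g i j w := by
  choose i j w' hw using jmap_surj f
  let g' : ↥(pullback (Sigma.desc f) (Sigma.desc f)) → G := fun w => g (i w) (j w) (w' w)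
  have hg' : ∀ i j w, g' (jmap f i j w) = g i j w := fun i j w => jmap_inj f g _ _ (hw _)
  have hlift : ∀ (K : Type u) [Field K] (i j : ι) (x : Spec (CommRingCat.of K) ⟶ X i)
      (y : Spec (CommRingCat.of K) ⟶ X j) (h : x ≫ f i = y ≫ f j)
      (h' : (x ≫ Sigma.ι X i) ≫ Sigma.desc f = (y ≫ Sigma.ι X j) ≫ Sigma.desc f),
      g' (pullback.lift (x ≫ Sigma.ι X i) (y ≫ Sigma.ι X j) h' default) = g i j (pullback.lift x y h default) := by
    intro K _ i j x y h h'
    rw [← lift_jmap f i j x y h, Scheme.Hom.comp_apply, hg']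
  have hK : ∀ (K : Type u) [Field K] [IsAlgClosed K] (x y z : Spec (CommRingCat.of K) ⟶ ∐ X)
      (ex : x ≫ Sigma.desc f = y ≫ Sigma.desc f) (ey : y ≫ Sigma.desc f = z ≫ Sigma.desc f),
      g' (pullback.lift x z (ex.trans ey) default) =
        g' (pullback.lift y z ey default) * g' (pullback.lift x y ex default) := by
    intro K _ _ x y z ex ey
    obtain ⟨i, x₀, rfl⟩ := exists_fac x
    obtain ⟨j, y₀, rfl⟩ := exists_fac y
    obtain ⟨k, z₀, rfl⟩ := exists_fac z
    have e1 : x₀ ≫ f i = y₀ ≫ f j := by simpa only [Category.assoc, Sigma.ι_desc] using ex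
    have e2 : y₀ ≫ f j = z₀ ≫ f k := by simpa only [Category.assoc, Sigma.ι_desc] using ey
    rw [hlift K i k x₀ z₀ (e1.trans e2), hlift K j k y₀ z₀ e2, hlift K i j x₀ y₀ e1]
    exact hcoc i j k K x₀ y₀ z₀ e1 e2
  refine ⟨g', ⟨?_, ?_⟩, hg'⟩
  · intro s
    have h1 : g' ⁻¹' s = ⋃ i, ⋃ j, jmap f i j '' (g i j ⁻¹' s) := by
      ext w
      simp only [Set.mem_preimage, Set.mem_iUnion, Set.mem_image]
      constructor
      · intro h
        exact ⟨i w, j w, w' w, h, hw w⟩
      · rintro ⟨i, j, w, h, rfl⟩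
        rwa [hg']
    rw [h1]
    refine isOpen_iUnion fun i => isOpen_iUnion fun j => ?_
    have h3 := isOpenImmersion_jmap f i j
    exact (jmap f i j).isOpenEmbedding.isOpenMap _ (hlc i j s)
  · intro W x y z h h' w
    obtain ⟨K, _, _, σ, hσ⟩ := Groth.Agent.Pi1.H416.PrincDesc.exists_geomPt W w
    have hl : ∀ (x y : W ⟶ ∐ X) (h : x ≫ Sigma.desc f = y ≫ Sigma.desc f),
        pullback.lift x y h w = pullback.lift (σ ≫ x) (σ ≫ y) (by simp only [Category.assoc, h]) default := by
      intro x y h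
      have h1 : σ ≫ pullback.lift x y h =
          pullback.lift (σ ≫ x) (σ ≫ y) (by simp only [Category.assoc, h]) := by
        apply pullback.hom_ext
        · rw [Category.assoc, pullback.lift_fst, pullback.lift_fst]
        · rw [Category.assoc, pullback.lift_snd, pullback.lift_snd]
      rw [← hσ default, ← Scheme.Hom.comp_apply, h1]
    rw [hl, hl, hl]
    exact hK K (σ ≫ x) (σ ≫ y) (σ ≫ z) (by simp only [Category.assoc, h]) (by simp only [Category.assoc, h'])

theorem exists_triv_fam [Finite ι] (hcov : ∀ x : T, ∃ i, x ∈ Set.range (f i))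
    (hf : (∀ i, Etale (f i) ∧ QuasiCompact (f i)) ∨ ∀ i, IsIntegralHom (f i)) {G : Type} [Group G] [Finite G]
    (g : ∀ i j, ↥(pullback (f i) (f j)) → G) (hlc : ∀ i j, IsLocallyConstant (g i j))
    (hcoc : ∀ (i j k : ι) (K : Type u) [Field K] [IsAlgClosed K] (x : Spec (CommRingCat.of K) ⟶ X i)
      (y : Spec (CommRingCat.of K) ⟶ X j) (z : Spec (CommRingCat.of K) ⟶ X k) (h : x ≫ f i = y ≫ f j)
      (h' : y ≫ f j = z ≫ f k),
      g i k (pullback.lift x z (h.trans h') default) =
        g j k (pullback.lift y z h' default) * g i j (pullback.lift x y h default)) :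
    ∃ (Q : FEt.Cat T) (ρ : G →* Aut Q) (_ : SGA1t.IsPrincipal G Q ρ) (τ : ∀ i, X i ⟶ Q.left),
      (∀ i, τ i ≫ Q.hom = f i) ∧
      ∀ (i j : ι) (K : Type u) [Field K] [IsAlgClosed K] (x : Spec (CommRingCat.of K) ⟶ X i)
        (y : Spec (CommRingCat.of K) ⟶ X j) (h : x ≫ f i = y ≫ f j),
        y ≫ τ j = x ≫ τ i ≫ (ρ (g i j (pullback.lift x y h default))).hom.left := by
  obtain ⟨g', hg', hgg⟩ := exists_coc f g hlc hcoc
  have hs : Surjective (Sigma.desc f) := Surjective.sigmaDesc_of_union_range_eq_univ (by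
    rw [Set.eq_univ_iff_forall]
    exact fun x => Set.mem_iUnion.2 (hcov x))
  have hqc : QuasiCompact (Sigma.desc f) := K548.CoverDesc.quasiCompact_sigmaDesc f fun i => by
    rcases hf with h | h
    · exact (h i).2
    · have := h i
      infer_instance
  have hS : Subtr.UnivSSubtrusive (Sigma.desc f) := by
    rcases hf with h | h
    · have h1 : Etale (Sigma.desc f) := etale_sigmaDesc f fun i => (h i).1
      exact _root_.K834.Basic.of_flat _
    · have h1 : ∀ i, UniversallyClosed (f i) := fun i => by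
        have := h i
        infer_instance
      have h2 : UniversallyClosed (Sigma.desc f) := Groth.Agent.Sga1.SigmaFinite.universallyClosed_sigmaDesc f
      exact _root_.K834.Basic.of_universallyClosed _
  obtain ⟨Q, ρ, hP, τ, hτ, h⟩ := exists_triv_one hS hg'
  refine ⟨Q, ρ, hP, fun i => Sigma.ι X i ≫ τ, fun i => ?_, fun i j K _ _ x y e => ?_⟩
  · rw [Category.assoc, hτ, Sigma.ι_desc]
  · have h1 := h _ (x ≫ Sigma.ι X i) (y ≫ Sigma.ι X j)
      (by rw [Category.assoc, Category.assoc, Sigma.ι_desc, Sigma.ι_desc, e])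
      (g i j (pullback.lift x y e default)) (fun w => by
        obtain rfl : w = default := Subsingleton.elim _ _
        rw [← lift_jmap f i j x y e, Scheme.Hom.comp_apply, hgg])
    simpa only [Category.assoc] using h1

end Fam

/-- **Node DESC.** -/
theorem trivDesc : K260.D1.TrivDesc.{u} := by
  intro T I _ T' π hπ G _ _ g hg
  obtain ⟨Q, ρ, hP, τ, h1, h2⟩ := exists_triv_fam (ι := ULift.{u} I) (X := fun i => T' i.down) (fun i => π i.down)
    (fun x => (hπ.1 x).imp' ULift.up fun _ h => h)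
    (hπ.2.imp (fun h i => h i.down) (fun h i => h i.down)) (fun i j => g i.down j.down)
    (fun i j => hg.lc i.down j.down)
    (fun i j k K _ _ x y z h h' => hg.cocyc i.down j.down k.down K x y z h h')
  exact ⟨Q, ρ, hP, fun i => τ ⟨i⟩, fun i => h1 ⟨i⟩, fun i j K _ _ x y h => h2 ⟨i⟩ ⟨j⟩ K x y h⟩

end K77.D1
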