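import Groth.Agent.Sga1.SigmaFinite
import Groth.Agent.Pi1.H416.PrincDesc
import Mathlib.AlgebraicGeometry.Morphisms.Etale
import Mathlib.Topology.LocallyConstant.Basic

/-!
# Disjoint unions of copies of a scheme

`IsCopies e cmp`: `e : E ⟶ N` is a disjoint union of copies of `N` indexed by the finite set `G`, the index being given
by `cmp : E → G`. Morphisms to `E` are pairs of a morphism to `N` and a locally constant function to `G`.
-/

set_option autoImplicit false
universe u

open CategoryTheory CategoryTheory.Limits AlgebraicGeometry TopologicalSpace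

namespace K77.D1

/-- `e : E ⟶ N` is a disjoint union of copies of `N` indexed by `G`, the index being `cmp`. -/
structure IsCopies {G : Type} {E N : Scheme.{u}} (e : E ⟶ N) (cmp : E → G) : Prop where
  fin : IsFinite e
  et : Etale e
  lc : IsLocallyConstant cmp
  ex : ∀ (W : Scheme.{u}) (u : W ⟶ N) (f : W → G), IsLocallyConstant f →
    ∃ h : W ⟶ E, h ≫ e = u ∧ ∀ w, cmp (h w) = f w
  ext : ∀ (W : Scheme.{u}) (h h' : W ⟶ E), h ≫ e = h' ≫ e → (∀ w, cmp (h w) = cmp (h' w)) → h = h'

/-- Gluing of morphisms along the pieces of a locally constant function. -/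
theorem exists_hom_of_lc {G : Type} {W X : Scheme.{u}} (f : W → G)
    (U : G → W.Opens) (hU : ∀ c w, w ∈ U c ↔ f w = c) (F : ∀ c, (U c).toScheme ⟶ X) :
    ∃ h : W ⟶ X, ∀ c, (U c).ι ≫ h = F c := by
  have hcov : ⨆ c, ((U c).ι).opensRange = ⊤ := by
    rw [eq_top_iff]
    intro w _
    simp only [Scheme.Opens.opensRange_ι, Opens.mem_iSup]
    exact ⟨f w, (hU _ _).2 rfl⟩
  have hdisj : Pairwise (Function.onFun Disjoint (fun c => ((U c).ι).opensRange)) := by
    intro c c' hcc'
    simp only [Function.onFun, Scheme.Opens.opensRange_ι]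
    rw [disjoint_iff]
    ext w
    constructor
    · rintro ⟨h1, h2⟩
      exact (hcc' (((hU c w).1 h1).symm.trans ((hU c' w).1 h2))).elim
    · exact fun h => h.elim
  obtain ⟨hc⟩ := nonempty_isColimit_cofanMk_of (fun c => (U c).ι) hcov hdisj
  exact ⟨Cofan.IsColimit.desc hc F, fun c => Cofan.IsColimit.fac hc F c⟩

theorem isOpen_fib {G : Type} {W : Scheme.{u}} {f : W → G} (hf : IsLocallyConstant f) (c : G) :
    IsOpen (f ⁻¹' {c}) := hf {c}

set_option backward.isDefEq.respectTransparency false in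
theorem isOpenImmersion_ι {ι : Type u} (X : ι → Scheme.{u}) (i : ι) : IsOpenImmersion (Sigma.ι X i) :=
  inferInstanceAs (IsOpenImmersion ((sigmaOpenCover X).f i))

set_option backward.isDefEq.respectTransparency false in
theorem etale_sigmaDesc {ι : Type u} {X : ι → Scheme.{u}} {Y : Scheme.{u}} (f : ∀ i, X i ⟶ Y)
    (h : ∀ i, Etale (f i)) : Etale (Sigma.desc f) :=
  IsZariskiLocalAtSource.sigmaDesc (P := @Etale) h

theorem exists_copies (G : Type) [Finite G] (N : Scheme.{u}) :
    ∃ (E : Scheme.{u}) (e : E ⟶ N) (cmp : E → G), IsCopies e cmp := by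
  let X : ULift.{u} G → Scheme.{u} := fun _ => N
  let E : Scheme.{u} := ∐ X
  let e : E ⟶ N := Sigma.desc fun _ => 𝟙 N
  let cmp : E → G := fun x => ((sigmaMk X).symm x).1.down
  have he : ∀ i, Sigma.ι X i ≫ e = 𝟙 N := fun i => Sigma.ι_desc _ _
  have hcmp : ∀ i (y : X i), cmp (Sigma.ι X i y) = i.down := by
    intro i y
    change ((sigmaMk X).symm (Sigma.ι X i y)).1.down = i.down
    rw [← sigmaMk_mk, Homeomorph.symm_apply_apply]
  have hcov : ∀ x : E, ∃ i y, Sigma.ι X i y = x := fun x => (sigmaOpenCover X).exists_eq x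
  have io : ∀ i, IsOpenImmersion (Sigma.ι X i) := isOpenImmersion_ι X
  have hr : ∀ i (x : E), x ∈ Set.range (Sigma.ι X i) ↔ cmp x = i.down := by
    intro i x
    constructor
    · rintro ⟨y, rfl⟩
      exact hcmp i y
    · intro h
      obtain ⟨j, y, rfl⟩ := hcov x
      rw [hcmp] at h
      obtain rfl : j = i := ULift.ext _ _ h
      exact ⟨y, rfl⟩
  have hlc : IsLocallyConstant cmp := by
    rw [IsLocallyConstant.iff_isOpen_fiber]
    intro c
    have h1 : cmp ⁻¹' {c} = Set.range (Sigma.ι X ⟨c⟩) := by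
      ext x
      exact (hr ⟨c⟩ x).symm
    rw [h1]
    exact (Sigma.ι X ⟨c⟩).opensRange.isOpen
  refine ⟨E, e, cmp, Groth.Agent.Sga1.SigmaFinite.isFinite_sigmaDesc _, ?_, hlc, ?_, ?_⟩
  · exact etale_sigmaDesc _ fun _ => inferInstance
  · intro W u f hf
    let U : G → W.Opens := fun c => ⟨f ⁻¹' {c}, isOpen_fib hf c⟩
    obtain ⟨h, hh⟩ := exists_hom_of_lc f U (fun c w => Iff.rfl) (fun c => (U c).ι ≫ u ≫ Sigma.ι X ⟨c⟩)
    have hw : ∀ w : W, ∃ (c : G) (w' : ↥(U c).toScheme), (U c).ι w' = w ∧ f w = c := fun w =>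
      ⟨f w, ⟨w, rfl⟩, rfl, rfl⟩
    refine ⟨h, ?_, ?_⟩
    · refine (Scheme.Cover.hom_ext (Scheme.openCoverOfIsOpenCover W U ?_) _ _ ?_)
      · rw [IsOpenCover, eq_top_iff]
        intro w _
        simp only [Opens.mem_iSup]
        exact ⟨f w, rfl⟩
      · intro c
        change (U c).ι ≫ h ≫ e = (U c).ι ≫ u
        rw [reassoc_of% (hh c), he, Category.comp_id]
    · intro w
      obtain ⟨c, w', rfl, hc⟩ := hw w
      rw [hc, ← Scheme.Hom.comp_apply, hh, ← Category.assoc, Scheme.Hom.comp_apply, hcmp]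
  · intro W h h' he' hc
    refine Scheme.Cover.hom_ext ((sigmaOpenCover X).pullback₁ h) _ _ fun (i : ULift.{u} G) => ?_
    change pullback.fst h (Sigma.ι X i) ≫ h = pullback.fst h (Sigma.ι X i) ≫ h'
    have h1 : pullback.fst h (Sigma.ι X i) ≫ h = pullback.snd h (Sigma.ι X i) ≫ Sigma.ι X i :=
      pullback.condition
    have h2 : Set.range (pullback.fst h (Sigma.ι X i) ≫ h') ⊆ Set.range (Sigma.ι X i) := by
      rintro _ ⟨w, rfl⟩
      refine (hr i _).2 ?_
      rw [Scheme.Hom.comp_apply, ← hc, ← Scheme.Hom.comp_apply, h1, Scheme.Hom.comp_apply, hcmp]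
    have h3 := IsOpenImmersion.lift_fac (Sigma.ι X i) _ h2
    have h4 : IsOpenImmersion.lift (Sigma.ι X i) _ h2 = pullback.snd h (Sigma.ι X i) := by
      have h5 := congrArg (· ≫ e) h3
      simp only [Category.assoc, he] at h5
      rw [← he', ← Category.assoc, h1, Category.assoc, he] at h5
      exact (Category.comp_id _).symm.trans (h5.trans (Category.comp_id _))
    rw [h1, ← h3, h4]

end K77.D1
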