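import Groth.Agent.Pi1.K77.Copies
import Groth.Agent.EtAcyc.K548.DescEff
import Groth.Agent.EtAcyc.K548.PrinLocus

/-!
# Descent of a trivial torsor along one morphism of effective descent

`π : T' ⟶ T` quasi-compact and universally subtrusive, `g` a locally constant `G`-valued cocycle on `T' ×_T T'`: there
is a principal cover `Q` of `T` with a map `τ : T' ⟶ Q` over `T` such that `y τ = g (x, y) . x τ`.
-/

set_option autoImplicit false
universe u

open CategoryTheory CategoryTheory.Limits AlgebraicGeometry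

namespace K77.D1

open K548.DescE

variable {T T' : Scheme.{u}} {π : T' ⟶ T} {G : Type} [Group G]

/-- A locally constant cocycle. -/
structure Coc (π : T' ⟶ T) (g : ↥(pullback π π) → G) : Prop where
  lc : IsLocallyConstant g
  coc : ∀ (W : Scheme.{u}) (x y z : W ⟶ T') (h : x ≫ π = y ≫ π) (h' : y ≫ π = z ≫ π) (w : W),
    g (pullback.lift x z (h.trans h') w) = g (pullback.lift y z h' w) * g (pullback.lift x y h w)

variable {g : ↥(pullback π π) → G}

theorem Coc.self (hg : Coc π g) (W : Scheme.{u}) (x : W ⟶ T') (w : W) : g (pullback.lift x x rfl w) = 1 := by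
  have h := hg.coc W x x x rfl rfl w
  exact (mul_eq_left.1 h.symm)

section Act

variable {E : Scheme.{u}} {e : E ⟶ T'} {cmp : E → G}

/-- the map `E ×_T T' ⟶ T' ×_T T'` -/
noncomputable def k2 (e : E ⟶ T') (π : T' ⟶ T) : pullback (e ≫ π) π ⟶ pullback π π :=
  pullback.lift (pullback.fst _ _ ≫ e) (pullback.snd _ _) (by rw [Category.assoc, pullback.condition])

theorem lift_k2 {W : Scheme.{u}} (u : W ⟶ E) (v : W ⟶ T') (h : u ≫ e ≫ π = v ≫ π) :
    pullback.lift u v h ≫ k2 e π = pullback.lift (u ≫ e) v (by rw [Category.assoc, h]) := by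
  apply pullback.hom_ext
  · rw [k2, Category.assoc, pullback.lift_fst, pullback.lift_fst_assoc, pullback.lift_fst]
  · rw [k2, Category.assoc, pullback.lift_snd, pullback.lift_snd, pullback.lift_snd]

/-- The action map. -/
theorem exists_act (hE : IsCopies e cmp) (hg : Coc π g) : ∃ a : pullback (e ≫ π) π ⟶ E, IsAct e π a ∧
    ∀ (W : Scheme.{u}) (u : W ⟶ E) (v : W ⟶ T') (h : u ≫ e ≫ π = v ≫ π) (w : W),
      cmp ((pullback.lift u v h ≫ a) w) =
        cmp (u w) * (g (pullback.lift (u ≫ e) v (by rw [Category.assoc, h]) w))⁻¹ := by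
  obtain ⟨a, ha1, ha2⟩ := hE.ex _ (pullback.snd (e ≫ π) π)
    (fun w => cmp (pullback.fst (e ≫ π) π w) * (g (k2 e π w))⁻¹) (by
      have h1 : IsLocallyConstant fun w => cmp (pullback.fst (e ≫ π) π w) :=
        hE.lc.comp_continuous (pullback.fst (e ≫ π) π).continuous
      have h2 : IsLocallyConstant fun w => g (k2 e π w) := hg.lc.comp_continuous (k2 e π).continuous
      exact h1.mul h2.inv)
  have key : ∀ (W : Scheme.{u}) (u : W ⟶ E) (v : W ⟶ T') (h : u ≫ e ≫ π = v ≫ π) (w : W),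
      cmp ((pullback.lift u v h ≫ a) w) =
        cmp (u w) * (g (pullback.lift (u ≫ e) v (by rw [Category.assoc, h]) w))⁻¹ := by
    intro W u v h w
    rw [Scheme.Hom.comp_apply, ha2, ← lift_k2 u v h, Scheme.Hom.comp_apply (pullback.lift u v h) (k2 e π)]
    congr 2
    rw [← Scheme.Hom.comp_apply, pullback.lift_fst]
  refine ⟨a, ⟨ha1, ?_, ?_⟩, key⟩
  · intro W u v hv h
    subst hv
    apply hE.ext
    · rw [Category.assoc, ha1, pullback.lift_snd]
    · intro w
      rw [key, hg.self, inv_one, mul_one]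
  · intro W u v v' h h' h1
    have e1 : (pullback.lift u v h ≫ a) ≫ e = v := by rw [Category.assoc, ha1, pullback.lift_snd]
    apply hE.ext
    · rw [Category.assoc, ha1, pullback.lift_snd, Category.assoc, ha1, pullback.lift_snd]
    · intro w
      rw [key, key, key]
      have h2 := hg.coc W (u ≫ e) v v' (by rw [Category.assoc, h]) h' w
      rw [h2, mul_inv_rev, mul_assoc]
      congr 4
      simp only [e1]

end Act

/-- Effectivity. -/
theorem exists_quot {E : Scheme.{u}} {e : E ⟶ T'} [IsFinite e] [Etale e] [QuasiCompact π]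
    (hπ : Subtr.UnivSSubtrusive π) {a : pullback (e ≫ π) π ⟶ E} (ha : IsAct e π a) :
    ∃ (U : Scheme.{u}) (υ : U ⟶ T) (_ : IsFinite υ) (_ : Etale υ) (q : E ⟶ U), IsPullback q e υ π ∧
      ∀ (W : Scheme.{u}) (u : W ⟶ E) (v : W ⟶ T') (h : u ≫ e ≫ π = v ≫ π),
        (pullback.lift u v h ≫ a) ≫ q = u ≫ q := by
  have hs : SGA1.UnivSubmersive π :=
    _root_.K834.Subm.univSubmersive_of_univSSubtrusive π hπ
  have i1 : QuasiCompact ha.dd.obj.hom := inferInstanceAs (QuasiCompact e)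
  have i2 : IsSeparated ha.dd.obj.hom := inferInstanceAs (IsSeparated e)
  have i3 : Etale ha.dd.obj.hom := inferInstanceAs (Etale e)
  obtain ⟨U, hU1, hU2, hU3, ⟨i⟩⟩ := Groth.Agent.S14774.result π hπ ha.dd
  let υ : U.left ⟶ T := U.hom
  let ψ : pullback π υ ⟶ E := i.hom.hom.left
  have hψ : ψ ≫ e = pullback.fst π υ := Over.w i.hom.hom
  have hψi : IsIso ψ := by
    refine ⟨i.inv.hom.left, ?_, ?_⟩
    · exact congrArg (fun a => a.hom.left) i.hom_inv_id
    · exact congrArg (fun a => a.hom.left) i.inv_hom_id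
  have hfin : IsFinite (pullback.snd υ π) := by
    have h1 : IsFinite (pullback.fst π υ) := by rw [← hψ]; infer_instance
    have h2 : pullback.snd υ π = (pullbackSymmetry υ π).hom ≫ pullback.fst π υ :=
      (pullbackSymmetry_hom_comp_fst υ π).symm
    rw [h2]
    infer_instance
  have hυ : IsFinite υ := Groth.Agent.S14797.result π hs υ
  have hinv : inv ψ ≫ pullback.fst π υ = e := by rw [← hψ, IsIso.inv_hom_id_assoc]
  refine ⟨U.left, υ, hυ, hU3, inv ψ ≫ pullback.snd π υ, ?_, ?_⟩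
  · refine (IsPullback.of_hasPullback π υ).flip.of_iso (asIso ψ) (Iso.refl _) (Iso.refl _) (Iso.refl _)
      ?_ ?_ ?_ ?_
    · simp
    · simp [hψ]
    · simp
    · simp
  · intro W u v h
    let V₀ : Desc.Lifts (Over.mk (pullback.fst π υ)) (u ≫ e) := ⟨u ≫ inv ψ, by
      change (u ≫ inv ψ) ≫ pullback.fst π υ = u ≫ e
      rw [Category.assoc, hinv]⟩
    let W₀ : Desc.Lifts (Over.mk e) (u ≫ e) := ⟨u, rfl⟩
    have hx : (u ≫ e) ≫ π = v ≫ π := by rw [Category.assoc, h]
    have h1 := i.hom.comm (u ≫ e) v hx V₀ W₀ (by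
      change u = (u ≫ inv ψ) ≫ ψ
      rw [Category.assoc, IsIso.inv_hom_id, Category.comp_id])
    have h2 : pullback.lift u v h ≫ a = (Desc.canMap π (Over.mk υ) (u ≫ e) v hx V₀).1 ≫ ψ := h1
    rw [h2, Category.assoc, IsIso.hom_inv_id_assoc, Desc.canMap_val]
    refine (pullback.lift_snd _ _ _).trans ?_
    exact Category.assoc _ _ _

theorem isUnivSubmersive_of {E U : Scheme.{u}} {e : E ⟶ T'} {υ : U ⟶ T} {q : E ⟶ U} (h : IsPullback q e υ π)
    [QuasiCompact π] (hπ : Subtr.UnivSSubtrusive π) : SGA1.UnivSubmersive q :=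
  MorphismProperty.of_isPullback (P := SGA1.UnivSubmersive) h.flip
    (_root_.K834.Subm.univSubmersive_of_univSSubtrusive π hπ)

/-- **Descent of a trivial torsor**, one morphism. -/
theorem exists_triv_one [Finite G] [QuasiCompact π] (hπ : Subtr.UnivSSubtrusive π) (hg : Coc π g) :
    ∃ (Q : FEt.Cat T) (ρ : G →* Aut Q) (_ : SGA1t.IsPrincipal G Q ρ) (τ : T' ⟶ Q.left), τ ≫ Q.hom = π ∧
      ∀ (W : Scheme.{u}) (x y : W ⟶ T') (h : x ≫ π = y ≫ π) (c : G),
        (∀ w, g (pullback.lift x y h w) = c) → y ≫ τ = x ≫ τ ≫ (ρ c).hom.left := by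
  obtain ⟨E, e, cmp, hE⟩ := exists_copies G T'
  have i1 : IsFinite e := hE.fin
  have i2 : Etale e := hE.et
  obtain ⟨a, ha, key⟩ := exists_act hE hg
  obtain ⟨U, υ, hυ1, hυ2, q, hq, hqa⟩ := exists_quot hπ ha
  have hqs : SGA1.UnivSubmersive q := isUnivSubmersive_of hq hπ
  have iπ : Surjective π := _root_.K834.Basic.surjective hπ
  have iq : Surjective q := MorphismProperty.of_isPullback (P := @Surjective) hq.flip iπ
  have haq : ∀ (W : Scheme.{u}) (u u' : W ⟶ E) (h : u ≫ q = u' ≫ q) (h' : u ≫ e ≫ π = (u' ≫ e) ≫ π),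
      pullback.lift u (u' ≫ e) h' ≫ a = u' := by
    intro W u u' h h'
    apply hq.hom_ext
    · rw [hqa, h]
    · rw [Category.assoc, ha.hom, pullback.lift_snd]
  have hqe : ∀ (W : Scheme.{u}) (u u' : W ⟶ E) (_ : u ≫ q = u' ≫ q), u ≫ e ≫ π = (u' ≫ e) ≫ π := by
    intro W u u' h
    rw [← hq.w, ← Category.assoc, h, Category.assoc, Category.assoc, hq.w]
  -- the action on `E`
  choose m hm1 hm2 using fun c : G => hE.ex E e (fun w => c * cmp w) (by
    have h1 : IsLocallyConstant fun _ : E => c := IsLocallyConstant.const c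
    exact h1.mul hE.lc)
  have hmm : ∀ b c : G, m (b * c) = m c ≫ m b := by
    intro b c
    apply hE.ext
    · rw [Category.assoc, hm1, hm1, hm1]
    · intro w
      rw [Scheme.Hom.comp_apply, hm2, hm2, hm2, mul_assoc]
  have hm0 : m 1 = 𝟙 E := by
    apply hE.ext
    · rw [hm1, Category.id_comp]
    · intro w
      rw [hm2, one_mul]
      rfl
  have hma : ∀ (c : G) (W : Scheme.{u}) (u : W ⟶ E) (v : W ⟶ T') (h : u ≫ e ≫ π = v ≫ π)
      (h' : (u ≫ m c) ≫ e ≫ π = v ≫ π),
      pullback.lift (u ≫ m c) v h' ≫ a = (pullback.lift u v h ≫ a) ≫ m c := by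
    intro c W u v h h'
    apply hE.ext
    · rw [Category.assoc, ha.hom, pullback.lift_snd, Category.assoc, hm1, Category.assoc, ha.hom,
        pullback.lift_snd]
    · intro w
      rw [key, Scheme.Hom.comp_apply (pullback.lift u v h ≫ a), hm2, key, Scheme.Hom.comp_apply u, hm2, mul_assoc]
      congr 4
      simp only [Category.assoc, hm1]
  -- the action on `U`
  have hr : ∀ c : G, ∃ r : U ⟶ U, r ≫ υ = υ ∧ q ≫ r = m c ≫ q := by
    intro c
    have hv : (m c ≫ q) ≫ υ = q ≫ υ := by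
      rw [Category.assoc, hq.w, reassoc_of% (hm1 c)]
    refine Groth.Agent.Sga1.EtaleHom.exists_hom_of_compat q hqs υ υ (m c ≫ q) hv ?_
    intro L _ x₀ x₁ h
    have h1 := hqe _ _ _ h
    have h2 := haq _ _ _ h h1
    have h3 := hma c _ x₀ (x₁ ≫ e) h1 (by rw [Category.assoc, reassoc_of% (hm1 c), h1])
    rw [h2] at h3
    have h4 := hqa _ (x₀ ≫ m c) (x₁ ≫ e) (by rw [Category.assoc, reassoc_of% (hm1 c), h1])
    rw [h3] at h4
    rw [← Category.assoc, ← Category.assoc, h4]
  choose r hr1 hr2 using hr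
  have hru : ∀ r r' : U ⟶ U, r ≫ υ = υ → r' ≫ υ = υ → q ≫ r = q ≫ r' → r = r' := fun r r' h h' h'' =>
    Groth.Agent.Sga1.EtaleHom.hom_unique q υ r r' (h.trans h'.symm) h''
  have hrm : ∀ b c : G, r (b * c) = r c ≫ r b := by
    intro b c
    apply hru _ _ (hr1 _)
    · rw [Category.assoc, hr1, hr1]
    · rw [hr2, hmm, reassoc_of% (hr2 c), hr2, Category.assoc]
  have hr0 : r 1 = 𝟙 U := by
    apply hru _ _ (hr1 _) (Category.id_comp _)
    rw [hr2, hm0, Category.id_comp, Category.comp_id]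
  let Q : FEt.Cat T := MorphismProperty.Over.mk ⊤ υ ⟨hυ1, hυ2⟩
  let R : G → (Q ⟶ Q) := fun c => MorphismProperty.Over.homMk (r c) (hr1 c)
  have hRm : ∀ b c : G, R (b * c) = R c ≫ R b := fun b c => MorphismProperty.Over.Hom.ext (hrm b c)
  have hR0 : R 1 = 𝟙 Q := MorphismProperty.Over.Hom.ext hr0
  let ρ : G →* Aut Q := MonoidHom.mk' (fun c => ⟨R c, R c⁻¹, by rw [← hRm, inv_mul_cancel, hR0],
    by rw [← hRm, mul_inv_cancel, hR0]⟩) (fun b c => by
      apply Iso.ext
      exact hRm b c)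
  have hρ : ∀ c : G, (ρ c).hom.left = r c := fun c => rfl
  -- principality
  have hP : SGA1t.IsPrincipal G Q ρ := by
    rw [K548.PrinLocus.isPrincipal_iff]
    intro Ω _ _ ξ
    apply K548.PrinLocus.st_of_notMem
    obtain ⟨y, hy⟩ := iπ.surj (ξ default)
    rw [← hy]
    refine K548.PrinLocus.notMem_bad G Q ρ π (fun Ω _ _ ξ => ?_) y
    refine ⟨?_, fun s t => ?_⟩
    · obtain ⟨o, ho, -⟩ := hE.ex _ ξ (fun _ => 1) (IsLocallyConstant.const 1)
      refine ⟨⟨o ≫ q, ?_⟩⟩
      change (o ≫ q) ≫ υ = ξ ≫ π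
      rw [Category.assoc, hq.w, reassoc_of% ho]
    · have hs1 : hq.lift s.1 ξ s.2 ≫ q = s.1 := hq.lift_fst _ _ _
      have hs2 : hq.lift s.1 ξ s.2 ≫ e = ξ := hq.lift_snd _ _ _
      have ht1 : hq.lift t.1 ξ t.2 ≫ q = t.1 := hq.lift_fst _ _ _
      have ht2 : hq.lift t.1 ξ t.2 ≫ e = ξ := hq.lift_snd _ _ _
      have hst : ∀ c : G, (FEt.fiber (ξ ≫ π)).map (ρ c).hom s = t ↔
          c * cmp (hq.lift s.1 ξ s.2 default) = cmp (hq.lift t.1 ξ t.2 default) := by
        intro c
        have h1 : ((FEt.fiber (ξ ≫ π)).map (ρ c).hom s).1 = (hq.lift s.1 ξ s.2 ≫ m c) ≫ q := by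
          change s.1 ≫ r c = _
          rw [Category.assoc, ← hr2, reassoc_of% hs1]
          rfl
        constructor
        · intro h
          have h2 : hq.lift s.1 ξ s.2 ≫ m c = hq.lift t.1 ξ t.2 := by
            apply hq.hom_ext
            · rw [← h1, h, ht1]
            · rw [Category.assoc, hm1, hs2, ht2]
          rw [← h2, Scheme.Hom.comp_apply, hm2]
        · intro h
          have h2 : hq.lift s.1 ξ s.2 ≫ m c = hq.lift t.1 ξ t.2 := by
            apply hE.ext
            · rw [Category.assoc, hm1, hs2, ht2]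
            · intro w
              obtain rfl : w = default := Subsingleton.elim _ _
              rw [Scheme.Hom.comp_apply, hm2, h]
          apply Subtype.ext
          rw [h1, h2, ht1]
      refine ⟨cmp (hq.lift t.1 ξ t.2 default) * (cmp (hq.lift s.1 ξ s.2 default))⁻¹, ?_, fun c hc => ?_⟩
      · exact (hst _).2 (inv_mul_cancel_right _ _)
      · exact eq_mul_inv_of_mul_eq ((hst c).1 hc)
  -- the section
  obtain ⟨o, ho1, ho2⟩ := hE.ex T' (𝟙 T') (fun _ => 1) (IsLocallyConstant.const 1)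
  refine ⟨Q, ρ, hP, o ≫ q, ?_, ?_⟩
  · change (o ≫ q) ≫ υ = π
    rw [Category.assoc, hq.w, reassoc_of% ho1]
  · intro W x y h c hc
    rw [hρ]
    have h1 : ((x ≫ o) ≫ m c) ≫ e ≫ π = y ≫ π := by
      rw [Category.assoc, reassoc_of% (hm1 c), Category.assoc, reassoc_of% ho1, h]
    have h2 := hqa _ _ _ h1
    have h3 : pullback.lift ((x ≫ o) ≫ m c) y h1 ≫ a = y ≫ o := by
      apply hE.ext
      · rw [Category.assoc, ha.hom, pullback.lift_snd, Category.assoc, ho1, Category.comp_id]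
      · intro w
        rw [key, Scheme.Hom.comp_apply, hm2, Scheme.Hom.comp_apply, ho2, Scheme.Hom.comp_apply, ho2, mul_one]
        rw [mul_inv_eq_one]
        refine (hc w).symm.trans ?_
        congr 2
        simp only [Category.assoc, hm1, ho1, Category.comp_id]
    rw [h3] at h2
    change y ≫ o ≫ q = x ≫ (o ≫ q) ≫ r c
    rw [← Category.assoc y, h2]
    simp only [Category.assoc, hr2]

end K77.D1
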